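import Cfsg.Agent.Lib.Spor.Ly.Big.Masks

/-!
The representation of degree 111: some of the words are trivial.
-/

set_option autoImplicit false
set_option maxRecDepth 100000

namespace CfsgLib.Spor.Ly.Big

open CfsgLib.Spor

/-- Some words. -/
def words10 : List (List ℕ) := [
  [13, 0, 12, 0, 0, 0],
  [13, 2, 0, 3, 12, 0, 0, 2, 0, 3],
  [13, 2, 2, 0, 3, 3, 12, 0, 2, 2, 1, 3, 3, 1],
  [12, 12, 1, 1],
  [3, 3, 0, 2, 2, 12, 3, 3, 0, 2, 2, 12, 3, 3, 0, 2, 2, 12, 0, 0],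
  [18, 12, 20, 12, 28, 12],
  [13, 11, 13, 30, 12, 10, 12, 16],
  [12, 24, 12, 22, 13, 26, 13, 32]]

theorem check10 : words10.all trivOK = true := by
  decide +kernel

end CfsgLib.Spor.Ly.Big
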