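import Cfsg.Agent.Lib.Spor.Ly.Big.Masks

/-!
The representation of degree 111: some of the words are trivial.
-/

set_option autoImplicit false
set_option maxRecDepth 100000

namespace CfsgLib.Spor.Ly.Big

open CfsgLib.Spor

/-- Some words. -/
def words11 : List (List ℕ) := [
  [12, 2, 10, 12, 14, 13, 11, 3, 13, 34]]

theorem check11 : words11.all trivOK = true := by
  decide +kernel

end CfsgLib.Spor.Ly.Big
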