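import Cfsg.Agent.Lib.Spor.Ly.Big.Masks

/-!
The representation of degree 111: some of the words are trivial.
-/

set_option autoImplicit false
set_option maxRecDepth 100000

namespace CfsgLib.Spor.Ly.Big

open CfsgLib.Spor

/-- Some words. -/
def words3 : List (List ℕ) := [
  [1, 1, 4, 0, 0, 4, 4],
  [1, 3, 4, 2, 0, 2, 5, 3, 5, 3, 4, 4, 2],
  [1, 2, 4, 3, 0, 2, 5, 3, 5, 2, 5, 3, 3, 4, 2, 1, 4, 0, 5],
  [1, 6, 0, 7, 7],
  [3, 1, 4, 0, 2, 2, 4, 3, 4, 2, 4, 3, 3, 5, 2, 1, 5, 0],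
  [3, 3, 4, 2, 4, 4, 2, 2, 5, 3, 5, 5]]

theorem check3 : words3.all trivOK = true := by
  decide +kernel

end CfsgLib.Spor.Ly.Big
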