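import Cfsg.Agent.Lib.Spor.Ly.Big.Masks

/-!
The representation of degree 111: some of the words are trivial.
-/

set_option autoImplicit false
set_option maxRecDepth 100000

namespace CfsgLib.Spor.Ly.Big

open CfsgLib.Spor

/-- Some words. -/
def words5 : List (List ℕ) := [
  [9, 2, 8, 2, 4, 4, 3, 3, 4, 2, 5],
  [8, 0, 2, 2, 0, 3, 0, 8, 2, 4, 3, 7, 5, 1, 1],
  [8, 1, 4, 0, 8, 1, 5, 0, 8, 1, 4, 0, 2, 5, 3, 0, 3, 4, 2, 0, 0, 0],
  [10, 9, 3, 1, 4, 9, 1, 9, 1, 6, 2, 4, 3, 4, 2, 0, 3, 3, 1],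
  [10, 10, 1, 1, 1, 1]]

theorem check5 : words5.all trivOK = true := by
  decide +kernel

end CfsgLib.Spor.Ly.Big
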