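import Cfsg.Agent.Lib.Spor.Ly.Big.Check0
import Cfsg.Agent.Lib.Spor.Ly.Big.Check1
import Cfsg.Agent.Lib.Spor.Ly.Big.Check2
import Cfsg.Agent.Lib.Spor.Ly.Big.Check3
import Cfsg.Agent.Lib.Spor.Ly.Big.Check4
import Cfsg.Agent.Lib.Spor.Ly.Big.Check5
import Cfsg.Agent.Lib.Spor.Ly.Big.Check6
import Cfsg.Agent.Lib.Spor.Ly.Big.Check7
import Cfsg.Agent.Lib.Spor.Ly.Big.Check8
import Cfsg.Agent.Lib.Spor.Ly.Big.Check9
import Cfsg.Agent.Lib.Spor.Ly.Big.Check10
import Cfsg.Agent.Lib.Spor.Ly.Big.Check11

/-!
The representation of degree 111: the checked words, collected.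
-/

set_option autoImplicit false
set_option maxRecDepth 100000

namespace CfsgLib.Spor.Ly.Big

open CfsgLib.Spor

/-- The checked words. -/
def words : List (List ℕ) := words0 ++ words1 ++ words2 ++ words3 ++ words4 ++ words5 ++ words6 ++ words7 ++ words8 ++ words9 ++ words10 ++ words11

theorem words_check : words.all trivOK = true := by
  simp only [words, List.all_append, check0, check1, check2, check3, check4, check5, check6, check7, check8, check9, check10, check11, Bool.and_true]

end CfsgLib.Spor.Ly.Big
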