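import Cfsg.Agent.Lib.Spor.Ly.Big.Check
import Cfsg.Agent.Lib.Spor.Ly.Words
import Cfsg.Prelude.Def_Spor_Ly

/-!
The presented Lyons group has a representation of degree 111 over five elements in which its generator `a` is not
trivial.
-/

set_option autoImplicit false
set_option maxRecDepth 100000

namespace CfsgLib.Spor.Ly.Big

open CfsgLib.Spor CfsgLib.Spor.TC CfsgLib.Spor.HN Matrix

attribute [local irreducible] PackedMat.through PackedMat.matOf trivOK

local notation "Sq" => Matrix (Fin 111) (Fin 111) (ZMod 5)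

/-- The matrix of a letter. -/
noncomputable def mat (k : ℕ) : Sq := PackedMat.matOf 111 5 (mats.getD k [])

theorem triv_spec {w : List ℕ} (hw : ∀ k ∈ w, k < 36) (h : trivOK w = true) : (w.map mat).prod = 1 := by
  obtain ⟨hl, hr⟩ := mats_check
  have hMs : ∀ k < mats.length, PackedMat.rowsOK ctx.n ctx.p (mats.getD k []) = true := fun k hk => by
    rw [List.getD_eq_getElem _ _ hk]
    exact List.all_eq_true.1 hr _ (List.getElem_mem _)
  have e := PackedMat.word_eq_scalar valid (show 1 < 5 by norm_num) (show 5 ≤ 65536 by norm_num) hMs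
    (fun k hk => hl.symm ▸ hw k hk) (s := 1) (show 1 < 5 by norm_num)
    (by rw [scalar_enc, mul_one]; unfold trivOK at h; exact Nat.eq_of_beq_eq_true h)
  rw [Nat.cast_one, one_smul] at e
  exact e

theorem listed : (∀ k < 36, [k, invLetter 36 k] ∈ words) ∧ (∀ r ∈ bigRels, r = [] ∨ r ∈ words) ∧
    ∀ r ∈ words, ∀ k ∈ r, k < 36 := by
  decide +kernel

theorem pair_spec (k : ℕ) (hk : k < 36) : mat k * mat (invLetter 36 k) = 1 := by
  have := triv_spec (w := [k, invLetter 36 k]) (fun j hj => listed.2.2 _ (listed.1 k hk) j hj)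
    (List.all_eq_true.1 words_check _ (listed.1 k hk))
  simpa using this

theorem inv_even (i : Fin 18) : invLetter 36 (2 * i.1) = 2 * i.1 + 1 := by revert i; decide +kernel

theorem inv_odd (i : Fin 18) : invLetter 36 (2 * i.1 + 1) = 2 * i.1 := by revert i; decide +kernel

/-- The eighteen generators. -/
noncomputable def gen (i : Fin 18) : GL (Fin 111) (ZMod 5) where
  val := mat (2 * i.1)
  inv := mat (2 * i.1 + 1)
  val_inv := by
    have h := pair_spec (2 * i.1) (by omega)
    rwa [show invLetter 36 (2 * i.1) = 2 * i.1 + 1 from (inv_even i)] at h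
  inv_val := by
    have h := pair_spec (2 * i.1 + 1) (by omega)
    rwa [show invLetter 36 (2 * i.1 + 1) = 2 * i.1 from (inv_odd i)] at h

/-- The list of the free generators. -/
def free : List (FreeGroup (Fin 18)) := (List.finRange 18).map FreeGroup.of

/-- The generators defined by words. -/
def others : List Cfsg.Spor.Ly.Gen := [.c1, .c2, .c3, .c4, .a1, .a2, .a3, .a4, .u, .x23, .x24, .x96, .x129, .x162,
  .x163, .x164, .x165, .x166, .x167, .x168, .x169]

/-- A generator as a word in the eighteen. -/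
def subst (g : Cfsg.Spor.Ly.Gen) : FreeGroup (Fin 18) :=
  match g with
  | .a => FreeGroup.of 0
  | .b => FreeGroup.of 1
  | .c => FreeGroup.of 2
  | .c5 => FreeGroup.of 3
  | .e => FreeGroup.of 4
  | .d => FreeGroup.of 5
  | .z => FreeGroup.of 6
  | .x25 => FreeGroup.of 7
  | .x29 => FreeGroup.of 8
  | .x47 => FreeGroup.of 9
  | .x364 => FreeGroup.of 10
  | .x365 => FreeGroup.of 11
  | .x366 => FreeGroup.of 12
  | .x367 => FreeGroup.of 13
  | .x368 => FreeGroup.of 14
  | .x369 => FreeGroup.of 15
  | .x370 => FreeGroup.of 16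
  | .x371 => FreeGroup.of 17
  | g => ev (letterVal free) (bigSubst.getD (others.idxOf g) [])

theorem subst_rels : Cfsg.Spor.Ly.extra.map (FreeGroup.lift subst) = bigRels.map (ev (letterVal free)) := by
  decide +kernel

theorem letter_val (k : ℕ) (hk : k < 36) :
    ((letterVal (free.map (FreeGroup.lift gen)) k : GL (Fin 111) (ZMod 5)) : Sq) = mat k := by
  have e : free.map (FreeGroup.lift gen) = (List.finRange 18).map gen := by
    simp [free, List.map_map, Function.comp_def]
  rw [e]
  obtain ⟨i, rfl | rfl⟩ : ∃ i : Fin 18, k = 2 * i.1 ∨ k = 2 * i.1 + 1 :=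
    ⟨⟨k / 2, by omega⟩, by show k = 2 * (k / 2) ∨ k = 2 * (k / 2) + 1; omega⟩
  · rw [letterVal, if_pos (by omega), show 2 * i.1 / 2 = i.1 by omega,
      List.getD_eq_getElem _ _ (by simp)]
    simp [gen]
  · rw [letterVal, if_neg (by omega), show (2 * i.1 + 1) / 2 = i.1 by omega,
      List.getD_eq_getElem _ _ (by simp)]
    simp [gen]

theorem word_val : ∀ w : List ℕ, (∀ k ∈ w, k < 36) →
    ((ev (letterVal (free.map (FreeGroup.lift gen))) w : GL (Fin 111) (ZMod 5)) : Sq) = (w.map mat).prod
  | [], _ => by simp [ev]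
  | a :: w, hw => by
    rw [ev_cons, Units.val_mul, word_val w fun k hk => hw k (List.mem_cons_of_mem _ hk), List.map_cons,
      List.prod_cons, letter_val a (hw a List.mem_cons_self)]

theorem rels_hold : ∀ r ∈ Cfsg.Spor.coxRelators Cfsg.Spor.Ly.edges ∪ {r | r ∈ Cfsg.Spor.Ly.extra},
    FreeGroup.lift (fun g => FreeGroup.lift gen (subst g)) r = 1 := by
  rintro r (hr | hr)
  · obtain ⟨u, hu, -⟩ := hr
    simp [Cfsg.Spor.coxNodes, Cfsg.Spor.Ly.edges] at hu
  · change r ∈ Cfsg.Spor.Ly.extra at hr
    have e : FreeGroup.lift (fun g => FreeGroup.lift gen (subst g)) r = FreeGroup.lift gen (FreeGroup.lift subst r) := by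
      have : FreeGroup.lift (fun g => FreeGroup.lift gen (subst g)) =
          (FreeGroup.lift gen).comp (FreeGroup.lift subst) := FreeGroup.ext_hom _ _ fun g => by simp
      rw [this]
      rfl
    rw [e]
    obtain ⟨w, hw, hwe⟩ := List.mem_map.1 (subst_rels ▸ List.mem_map_of_mem (f := FreeGroup.lift subst) hr)
    rw [← hwe, map_ev_letterVal]
    rcases listed.2.1 w hw with rfl | hm
    · simp [ev]
    · refine Units.ext ?_
      rw [word_val w (listed.2.2 w hm), triv_spec (listed.2.2 w hm) (List.all_eq_true.1 words_check w hm),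
        Units.val_one]

theorem entry_check : ((List.range 111).any fun i => (List.range 111).any fun j =>
    !Nat.beq (PackedMat.entry (mat0.getD i 0) j) (bif Nat.beq i j then 1 else 0)) = true ∧
    ∀ i < 111, ∀ j < 111, PackedMat.entry (mat0.getD i 0) j < 5 := by
  refine ⟨by decide +kernel, fun i hi j hj => ?_⟩
  exact ((PackedMat.rowsOK_spec mat0_check).2 i hi).2 j hj

/-- The representation moves `a`. -/
theorem exists_hom : ∃ f : Cfsg.Spor.Ly →* GL (Fin 111) (ZMod 5), f (PresentedGroup.of Cfsg.Spor.Ly.Gen.a) ≠ 1 := by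
  refine ⟨PresentedGroup.toGroup rels_hold, fun h => ?_⟩
  rw [PresentedGroup.toGroup.of] at h
  simp only [subst, FreeGroup.lift_apply_of] at h
  have h1 : mat 0 = 1 := congrArg Units.val h
  obtain ⟨hd, hlt⟩ := entry_check
  obtain ⟨i, hi, hin⟩ := List.any_eq_true.1 hd
  obtain ⟨j, hj, hne⟩ := List.any_eq_true.1 hin
  have hi' := List.mem_range.1 hi
  have hj' := List.mem_range.1 hj
  have e := congrArg ZMod.val (congrArg (fun A : Sq => A ⟨i, hi'⟩ ⟨j, hj'⟩) h1)
  rw [show mat 0 = PackedMat.matOf 111 5 mat0 from rfl] at e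
  unfold PackedMat.matOf at e
  simp only [Matrix.of_apply, ZMod.val_natCast, Nat.mod_eq_of_lt (hlt i hi' j hj'), Matrix.one_apply,
    Fin.mk.injEq] at e
  rcases eq_or_ne i j with rfl | hij
  · haveI : Fact (1 < 5) := ⟨by norm_num⟩
    rw [if_pos rfl, ZMod.val_one] at e
    rw [e] at hne
    simp at hne
  · rw [if_neg hij, ZMod.val_zero] at e
    rw [e] at hne
    rw [show Nat.beq i j = false from Bool.eq_false_iff.2 fun hb => hij (Nat.eq_of_beq_eq_true hb)] at hne
    simp at hne

end CfsgLib.Spor.Ly.Big
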