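import Cfsg.Agent.Lib.Spor.Ly.Big.Data

/-!
The representation of degree 111: some of the matrices are reduced.
-/

set_option autoImplicit false
set_option maxRecDepth 100000

namespace CfsgLib.Spor.Ly.Big

open CfsgLib.Spor

theorem mat12_check : PackedMat.rowsOK ctx.n ctx.p mat12 = true := by decide +kernel

theorem mat13_check : PackedMat.rowsOK ctx.n ctx.p mat13 = true := by decide +kernel

theorem mat14_check : PackedMat.rowsOK ctx.n ctx.p mat14 = true := by decide +kernel

theorem mat15_check : PackedMat.rowsOK ctx.n ctx.p mat15 = true := by decide +kernel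

end CfsgLib.Spor.Ly.Big
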